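import Groth.Agent.Lib.SecSeries.MvLevels
import Mathlib.RingTheory.Ideal.Cotangent
import Mathlib.RingTheory.Smooth.Basic

/-!
# Completion of a smooth algebra along a section
-/

universe u

noncomputable section

namespace GrothLib.SecSeries.MvLevels

open MvPolynomial

variable {R : Type u} [CommRing R] {d : ℕ}

theorem prod_perturb {B : Type*} [CommRing B] (J : Ideal B) (u x : Fin d → B)
    (hx : ∀ i, x i ∈ J) (hu : ∀ i, u i - x i ∈ J ^ 2) (s : Multiset (Fin d)) :
    (s.map u).prod - (s.map x).prod ∈ J ^ (s.card + 1) ∧ (s.map x).prod ∈ J ^ s.card := by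
  induction s using Multiset.induction with
  | empty => simp
  | cons i s ih =>
    obtain ⟨h1, h2⟩ := ih
    simp only [Multiset.map_cons, Multiset.prod_cons, Multiset.card_cons]
    refine ⟨?_, ?_⟩
    · have hui : u i ∈ J := by
        have := add_mem (Ideal.pow_le_self two_ne_zero (hu i)) (hx i)
        rwa [sub_add_cancel] at this
      have e : u i * (s.map u).prod - x i * (s.map x).prod =
          u i * ((s.map u).prod - (s.map x).prod) + (u i - x i) * (s.map x).prod := by ring
      rw [e]
      refine add_mem ?_ ?_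
      · have := Ideal.mul_mem_mul hui h1
        rwa [← pow_succ'] at this
      · have := Ideal.mul_mem_mul (hu i) h2
        rwa [← pow_add, show 2 + s.card = s.card + 1 + 1 by omega] at this
    · have := Ideal.mul_mem_mul (hx i) h2
      rwa [← pow_succ'] at this

/-- Substituting `X i + O(2)` changes a form of degree `n` in order `n + 1` only. -/
theorem aeval_sub_self_mem (u : Fin d → MvPolynomial (Fin d) R)
    (hu : ∀ i, u i - X i ∈ idealOfVars (Fin d) R ^ 2) {n : ℕ} {F : MvPolynomial (Fin d) R}
    (hF : F.IsHomogeneous n) : aeval u F - F ∈ idealOfVars (Fin d) R ^ (n + 1) := by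
  have hX : ∀ i : Fin d, (X i : MvPolynomial (Fin d) R) ∈ idealOfVars (Fin d) R :=
    fun i => Ideal.subset_span ⟨i, rfl⟩
  rw [F.as_sum, map_sum, ← Finset.sum_sub_distrib]
  refine Ideal.sum_mem _ fun m hm => ?_
  have hdeg : (Finsupp.toMultiset m).card = n := by
    have := hF (mem_support_iff.1 hm)
    rw [Finsupp.card_toMultiset]
    rw [Finsupp.weight_apply] at this
    simpa [Function.comp_def, Finsupp.sum] using this
  have key : ∀ v : Fin d → MvPolynomial (Fin d) R, aeval v (monomial m (coeff m F)) =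
      MvPolynomial.C (coeff m F) * ((Finsupp.toMultiset m).map v).prod := by
    intro v
    rw [aeval_monomial, Finsupp.toMultiset_map, Finsupp.prod_toMultiset, Finsupp.prod_mapDomain_index
      (fun _ => pow_zero _) (fun _ _ _ => pow_add _ _ _)]
    rfl
  have e2 : monomial m (coeff m F) = aeval (X : Fin d → MvPolynomial (Fin d) R) (monomial m (coeff m F)) := by
    rw [aeval_X_left, AlgHom.id_apply]
  nth_rewrite 2 [e2]
  rw [key, key, ← mul_sub, ← hdeg]
  exact Ideal.mul_mem_left _ _ (prod_perturb _ u X hX hu _).1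

theorem nonempty_equiv_of_smooth {S : Type u} [CommRing S] [Algebra R S] [Algebra.FormallySmooth R S]
    (σ : S →ₐ[R] R) (e : (RingHom.ker σ.toRingHom).Cotangent ≃ₗ[R] (Fin d → R)) :
    Nonempty (AdicCompletion (RingHom.ker σ.toRingHom) S ≃ₐ[R] MvPowerSeries (Fin d) R) := by
  classical
  set I := RingHom.ker σ.toRingHom with hI
  have hmemI : ∀ s, s ∈ I ↔ σ s = 0 := fun s => Iff.rfl
  choose z hz using fun i => Ideal.toCotangent_surjective I (e.symm (Pi.single i 1))
  set t : Fin d → S := fun i => (z i : S) with htdef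
  have ht : ∀ i, t i ∈ I := fun i => (z i).2
  have hsec : ∀ c : S, ∃ r : R, c - algebraMap R S r ∈ I := fun c =>
    ⟨σ c, by rw [hmemI, map_sub, AlgHom.commutes, Algebra.algebraMap_self, RingHom.id_apply, sub_self]⟩
  have hlin : ∀ r : Fin d → R, ∀ h : ∑ i, algebraMap R S (r i) * t i ∈ I,
      I.toCotangent ⟨_, h⟩ = e.symm r := by
    intro r h
    have h1 : (⟨_, h⟩ : I) = ∑ i, algebraMap R S (r i) • z i := by
      ext
      rw [AddSubmonoidClass.coe_finsetSum]
      rfl
    rw [h1, map_sum]
    rw [Finset.sum_congr rfl fun i _ => show I.toCotangent (algebraMap R S (r i) • z i) = r i • e.symm (Pi.single i 1) by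
      rw [map_smul, hz, algebraMap_smul]]
    rw [show e.symm r = e.symm (∑ i, r i • Pi.single i (1 : R)) from
      congrArg e.symm (by ext j; simp [Pi.single_apply]), map_sum]
    simp only [map_smul]
  have hsum : ∀ r : Fin d → R, ∑ i, algebraMap R S (r i) * t i ∈ I := fun r =>
    Ideal.sum_mem _ fun i _ => I.mul_mem_left _ (ht i)
  have hgen : I ≤ Ideal.span (Set.range t) ⊔ I ^ 2 := by
    intro h hh
    obtain ⟨r, hr⟩ : ∃ r, e.symm r = I.toCotangent ⟨h, hh⟩ := e.symm.surjective _
    rw [← hlin r (hsum r), eq_comm, Ideal.toCotangent_eq] at hr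
    rw [← add_sub_cancel (∑ i, algebraMap R S (r i) * t i) h]
    exact add_mem (Ideal.mem_sup_left (Ideal.sum_mem _ fun i _ =>
      Ideal.mul_mem_left _ _ (Ideal.subset_span ⟨i, rfl⟩))) (Ideal.mem_sup_right hr)
  set J := idealOfVars (Fin d) R with hJdef
  -- level `2`
  let q2 := lev (R := R) I t ht 2
  have hq2s : Function.Surjective q2 := lev_surjective I t ht hsec hgen 2
  have hq2i : Function.Injective q2 := by
    rw [injective_iff_map_eq_zero]
    intro w hw
    obtain ⟨p, rfl⟩ := Ideal.Quotient.mk_surjective w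
    rw [lev_mk, Ideal.Quotient.eq_zero_iff_mem] at hw
    set r : Fin d → R := fun i => coeff (Finsupp.single i 1) p
    set L : MvPolynomial (Fin d) R := MvPolynomial.C (constantCoeff p) + ∑ i, MvPolynomial.C (r i) * X i
    have hrest : p - L ∈ idealOfVars (Fin d) R ^ 2 := by
      rw [mem_pow_idealOfVars_iff']
      intro x hx
      rcases (show x.degree = 0 ∨ x.degree = 1 by omega) with h0 | h1
      · rw [(Finsupp.degree_eq_zero_iff x).1 h0]
        simp [L, coeff_sum, constantCoeff_eq]
      · obtain ⟨i, rfl⟩ : x ∈ Set.range (fun a : Fin d => Finsupp.single a 1) := by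
          rw [Finsupp.range_single_one]; exact h1
        simp [L, r, coeff_sum, coeff_C_mul, coeff_X, Finsupp.single_eq_single_iff, eq_comm (a := (0 : Fin d →₀ ℕ))]
    have hL : aeval t L ∈ I ^ 2 := by
      have := sub_mem hw (pow_le_comap I t ht 2 hrest)
      rwa [map_sub, sub_sub_cancel] at this
    simp only [L, map_add, map_sum, map_mul, aeval_C, aeval_X] at hL
    have hc : constantCoeff p = 0 := by
      have h1 := (hmemI _).1 (sub_mem (Ideal.pow_le_self two_ne_zero hL) (hsum r))
      rwa [add_sub_cancel_right, AlgHom.commutes] at h1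
    rw [hc, map_zero, zero_add] at hL
    have hr : r = 0 := by
      apply e.symm.injective
      rw [← hlin r (hsum r), map_zero]
      exact (Ideal.toCotangent_eq_zero I ⟨_, hsum r⟩).2 hL
    have hL0 : L = 0 := by simp [L, hc, hr]
    rw [hL0, sub_zero] at hrest
    exact Ideal.Quotient.eq_zero_iff_mem.2 hrest
  let Q := AlgEquiv.ofBijective q2 ⟨hq2i, hq2s⟩
  let ψ2 : S →ₐ[R] MvPolynomial (Fin d) R ⧸ idealOfVars (Fin d) R ^ 2 :=
    Q.symm.toAlgHom.comp (Ideal.Quotient.mkₐ R (I ^ 2))
  have hψ2 : ∀ i, ψ2 (t i) = Ideal.Quotient.mk _ (X i) := fun i => by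
    show Q.symm (Ideal.Quotient.mk (I ^ 2) (t i)) = _
    rw [AlgEquiv.symm_apply_eq, AlgEquiv.ofBijective_apply, lev_mk, aeval_X]
  have hinj : ∀ (k : ℕ) (F : MvPolynomial (Fin d) R), F.IsHomogeneous k → aeval t F ∈ I ^ (k + 1) → F = 0 := by
    intro k F hF hFt
    set m := max (k + 1) 2
    have hle : J ^ m ≤ J ^ 2 := Ideal.pow_le_pow_right (le_max_right _ _)
    let π : (MvPolynomial (Fin d) R ⧸ J ^ m) →ₐ[R] MvPolynomial (Fin d) R ⧸ J ^ 2 := Ideal.Quotient.factorₐ R hle
    have hnil : IsNilpotent (RingHom.ker π.toRingHom) := by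
      refine ⟨m, le_bot_iff.1 ?_⟩
      have hk : RingHom.ker π.toRingHom ≤ J.map (Ideal.Quotient.mk (J ^ m)) := by
        intro w hw
        obtain ⟨p, rfl⟩ := Ideal.Quotient.mk_surjective w
        exact Ideal.mem_map_of_mem _ (Ideal.pow_le_self two_ne_zero (Ideal.Quotient.eq_zero_iff_mem.1 hw))
      refine (Ideal.pow_right_mono hk m).trans ?_
      rw [← Ideal.map_pow, Ideal.map_quotient_self]
    let ψ := Algebra.FormallySmooth.liftOfSurjective ψ2 π (Ideal.Quotient.factor_surjective hle) hnil
    have hψ : ∀ s, π (ψ s) = ψ2 s :=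
      Algebra.FormallySmooth.liftOfSurjective_apply ψ2 π (Ideal.Quotient.factor_surjective hle) hnil
    choose u hu using fun i => Ideal.Quotient.mk_surjective (ψ (t i))
    have huX : ∀ i, u i - X i ∈ J ^ 2 := fun i => by
      have h1 := hψ (t i)
      rw [← hu i] at h1
      exact Ideal.Quotient.eq.1 (h1.trans (hψ2 i))
    have hψI : ∀ s ∈ I, ψ s ∈ J.map (Ideal.Quotient.mk (J ^ m)) := by
      intro s hs
      have h1 := pow_le_comap (R := R) I t ht 1
      obtain ⟨p, hp⟩ := exists_sub_mem_pow I t ht hsec hgen 2 s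
      obtain ⟨w, hw⟩ := Ideal.Quotient.mk_surjective (ψ s)
      have h2 : Ideal.Quotient.mk (J ^ 2) w = Ideal.Quotient.mk (J ^ 2) p := by
        have := hψ s
        rw [← hw] at this
        refine this.trans ?_
        show Q.symm (Ideal.Quotient.mk (I ^ 2) s) = _
        rw [AlgEquiv.symm_apply_eq, AlgEquiv.ofBijective_apply, lev_mk, Ideal.Quotient.eq]
        exact hp
      have hpJ : p ∈ J := by
        rw [constantCoeff_eq_zero_iff]
        have h3 : aeval t p ∈ I := by
          have := sub_mem hs (Ideal.pow_le_self two_ne_zero hp)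
          rwa [sub_sub_cancel] at this
        have h4 : p - MvPolynomial.C (constantCoeff p) ∈ J := by
          rw [constantCoeff_eq_zero_iff, map_sub, constantCoeff_C, sub_self]
        have h5 : aeval t (MvPolynomial.C (constantCoeff p)) ∈ I := by
          have := sub_mem h3 (map_idealOfVars_le I t ht h4)
          rwa [map_sub, sub_sub_cancel] at this
        rw [aeval_C, hmemI, AlgHom.commutes] at h5
        exact h5
      have hwJ : w ∈ J := by
        have := add_mem (Ideal.pow_le_self two_ne_zero (Ideal.Quotient.eq.1 h2)) hpJ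
        rwa [sub_add_cancel] at this
      rw [← hw]
      exact Ideal.mem_map_of_mem _ hwJ
    have hψpow : ψ (aeval t F) ∈ (J ^ (k + 1)).map (Ideal.Quotient.mk (J ^ m)) := by
      rw [Ideal.map_pow]
      have := Ideal.mem_map_of_mem ψ.toRingHom hFt
      rw [Ideal.map_pow] at this
      exact Ideal.pow_right_mono (Ideal.map_le_iff_le_comap.2 hψI) (k + 1) this
    have hcomp : ψ (aeval t F) = Ideal.Quotient.mk (J ^ m) (aeval u F) := by
      have : ψ.comp (aeval t) = (Ideal.Quotient.mkₐ R (J ^ m)).comp (aeval u) :=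
        MvPolynomial.algHom_ext fun i => by simp [hu i]
      exact AlgHom.congr_fun this F
    rw [hcomp, Ideal.mem_map_iff_of_surjective _ Ideal.Quotient.mk_surjective] at hψpow
    obtain ⟨v, hv, hv'⟩ := hψpow
    have h6 : aeval u F ∈ J ^ (k + 1) := by
      have := sub_mem hv (Ideal.pow_le_pow_right (le_max_left _ _) (Ideal.Quotient.eq.1 hv'))
      rwa [sub_sub_cancel] at this
    have h7 : F ∈ J ^ (k + 1) := by
      have := sub_mem h6 (aeval_sub_self_mem u huX hF)
      rwa [sub_sub_cancel] at this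
    ext x
    rw [coeff_zero]
    by_contra hne
    have hx : x.degree = k := by
      rw [Finsupp.degree_eq_weight_one]
      exact hF hne
    exact hne ((mem_pow_idealOfVars_iff' (k + 1) F).1 h7 x (by omega))
  obtain ⟨E, -⟩ := nonempty_equiv I t hsec hgen ht hinj
  exact ⟨E⟩

end GrothLib.SecSeries.MvLevels
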