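import Mathlib

/-!
A ring complete along a regular element, with a section of the quotient, is a power series ring.
-/

set_option autoImplicit false
universe u v

namespace GrothLib.SecSeries

theorem exists_powerSeries_algHom_bijective (K : Type u) (A : Type v) [CommRing K] [CommRing A]
    [Algebra K A] (x : A) (hreg : IsSMulRegular A x) [IsAdicComplete (Ideal.span {x}) A]
    (hK : Function.Bijective ((Ideal.Quotient.mk (Ideal.span {x})).comp (algebraMap K A))) :
    ∃ φ : PowerSeries K →ₐ[K] A, φ PowerSeries.X = x ∧ Function.Bijective φ ∧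
      ∀ (f : PowerSeries K) (n : ℕ),
        φ f - (Finset.range n).sum (fun i => algebraMap K A (PowerSeries.coeff i f) * x ^ i) ∈
          Ideal.span {x} ^ n := by
  have hxm : x ∈ Ideal.span {x} := Ideal.subset_span rfl
  let S : PowerSeries K → ℕ → A := fun f n =>
    (Finset.range n).sum (fun i => algebraMap K A (PowerSeries.coeff i f) * x ^ i)
  have hS : ∀ f n, (PowerSeries.trunc n f).eval₂ (algebraMap K A) x = S f n := fun f n =>
    PowerSeries.eval₂_trunc_eq_sum_range x _ n f
  -- truncation does not change the value modulo `mⁿ`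
  have hred : ∀ (n : ℕ) (p : Polynomial K),
      Ideal.Quotient.mk ((Ideal.span {x}) ^ n) (S (p : PowerSeries K) n) =
        Ideal.Quotient.mk ((Ideal.span {x}) ^ n) (Polynomial.aeval x p) := fun n p => by
    rw [Ideal.Quotient.mk_eq_mk_iff_sub_mem, Polynomial.aeval_def,
      Polynomial.eval₂_eq_sum_range' (algebraMap K A) (Nat.lt_succ_of_le (Nat.le_add_left p.natDegree n)) x]
    rw [← neg_sub]
    refine Ideal.neg_mem_iff _ |>.2 ?_
    rw [show S (p : PowerSeries K) n = ∑ i ∈ Finset.range n, algebraMap K A (p.coeff i) * x ^ i by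
      simp [S, Polynomial.coeff_coe],
      ← Finset.sum_range_add_sum_Ico _ (show n ≤ (n + p.natDegree).succ by omega), add_sub_cancel_left]
    refine Ideal.sum_mem _ fun i hi => Ideal.mul_mem_left _ _ ?_
    exact Ideal.pow_le_pow_right (Finset.mem_Ico.1 hi).1 (Ideal.pow_mem_pow hxm i)
  let F : ∀ n, PowerSeries K →ₐ[K] A ⧸ (Ideal.span {x}) ^ n := fun n =>
    { toFun := fun f => Ideal.Quotient.mk _ (S f n)
      map_one' := by
        rw [show (1 : PowerSeries K) = ((1 : Polynomial K) : PowerSeries K) from Polynomial.coe_one.symm, hred,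
          map_one, map_one]
      map_mul' := fun f g => by
        rw [← map_mul, ← hS (f * g), ← PowerSeries.trunc_trunc_mul_trunc, hS, ← Polynomial.coe_mul, hred, map_mul,
          Polynomial.aeval_def, Polynomial.aeval_def, hS, hS]
      map_zero' := by simp [S]
      map_add' := fun f g => by
        rw [← map_add]
        congr 1
        simp [S, add_mul, Finset.sum_add_distrib]
      commutes' := fun r => by
        show Ideal.Quotient.mk _ (S (algebraMap K (PowerSeries K) r) n) = _
        rw [PowerSeries.algebraMap_eq, show (PowerSeries.C r) = ((Polynomial.C r : Polynomial K) : PowerSeries K) from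
          (Polynomial.coe_C r).symm, hred, Polynomial.aeval_C]
        rfl }
  have hcompat : ∀ {m n : ℕ} (hle : m ≤ n),
      (Ideal.Quotient.factorₐ K (Ideal.pow_le_pow_right hle)).comp (F n) = F m := by
    intro m n hle
    refine AlgHom.ext fun f => ?_
    show Ideal.Quotient.mk _ (S f n) = Ideal.Quotient.mk _ (S f m)
    rw [Ideal.Quotient.mk_eq_mk_iff_sub_mem]
    simp only [S]
    rw [← Finset.sum_sdiff (Finset.range_mono hle)
      (f := fun i => algebraMap K A (PowerSeries.coeff i f) * x ^ i), add_sub_cancel_right]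
    refine Ideal.sum_mem _ fun i hi => Ideal.mul_mem_left _ _ ?_
    exact Ideal.pow_le_pow_right (by simpa using (Finset.mem_sdiff.1 hi).2) (Ideal.pow_mem_pow hxm i)
  let φ : PowerSeries K →ₐ[K] A := IsAdicComplete.liftAlgHom ((Ideal.span {x})) F hcompat
  have hφ : ∀ f n, φ f - S f n ∈ (Ideal.span {x}) ^ n := fun f n =>
    Ideal.Quotient.mk_eq_mk_iff_sub_mem _ _ |>.1 (IsAdicComplete.mk_liftAlgHom _ F hcompat n f)
  have hcopy : ∀ (a b : A), (∀ n, a - b ∈ (Ideal.span {x}) ^ n) → a = b := fun a b h =>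
    sub_eq_zero.1 (IsHausdorff.haus (inferInstance : IsHausdorff ((Ideal.span {x})) A) _ fun n => by
      rw [SModEq.zero, smul_eq_mul, Ideal.mul_top]; exact h n)
  refine ⟨φ, ?_, ⟨?_, ?_⟩, hφ⟩
  · refine hcopy _ _ fun n => ?_
    have h := Ideal.add_mem _ (hφ PowerSeries.X n)
      (Ideal.Quotient.mk_eq_mk_iff_sub_mem _ _ |>.1 (hred n Polynomial.X))
    rw [Polynomial.coe_X, sub_add_sub_cancel, Polynomial.aeval_X] at h
    exact h
  · rw [injective_iff_map_eq_zero]
    intro f hf
    ext k
    rw [map_zero]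
    induction k using Nat.strong_induction_on with
    | _ k ih =>
      have h := hφ f (k + 1)
      rw [hf, zero_sub, Ideal.neg_mem_iff] at h
      simp only [S, Finset.sum_range_succ] at h
      rw [Finset.sum_eq_zero fun i hi => by rw [ih i (Finset.mem_range.1 hi), map_zero, zero_mul], zero_add,
        Ideal.span_singleton_pow, Ideal.mem_span_singleton] at h
      obtain ⟨c, hc⟩ := h
      refine hK.1 ?_
      rw [map_zero, RingHom.comp_apply, Ideal.Quotient.eq_zero_iff_mem, Ideal.mem_span_singleton]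
      refine ⟨c, (hreg.pow k) ?_⟩
      show x ^ k • algebraMap K A (PowerSeries.coeff k f) = x ^ k • (x * c)
      rw [smul_eq_mul, smul_eq_mul, mul_comm, hc, pow_succ, mul_assoc]
  · intro a
    have hstep : ∀ a : A, ∃ (c : K) (a' : A), a = algebraMap K A c + x * a' := fun a => by
      obtain ⟨c, hc⟩ := hK.2 (Ideal.Quotient.mk (Ideal.span {x}) a)
      have : a - algebraMap K A c ∈ (Ideal.span {x}) := by
        rw [← Ideal.Quotient.eq_zero_iff_mem, map_sub, ← hc, RingHom.comp_apply, sub_self]
      rw [Ideal.mem_span_singleton] at this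
      obtain ⟨a', ha'⟩ := this
      exact ⟨c, a', by rw [← ha', add_sub_cancel]⟩
    choose c a' hc using hstep
    let r : ℕ → A := fun n => Nat.rec a (fun _ b => a' b) n
    let f : PowerSeries K := PowerSeries.mk fun i => c (r i)
    refine ⟨f, hcopy _ _ fun n => ?_⟩
    have hr : ∀ n, a = S f n + x ^ n * r n := by
      intro n
      induction n with
      | zero => simp [S, r]
      | succ n ih =>
        calc a = S f n + x ^ n * r n := ih
          _ = S f (n + 1) + x ^ (n + 1) * r (n + 1) := by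
            simp only [S, Finset.sum_range_succ]
            rw [show r n = algebraMap K A (c (r n)) + x * r (n + 1) from hc (r n), PowerSeries.coeff_mk, pow_succ]
            ring
    rw [hr n, ← sub_sub]
    exact Ideal.sub_mem _ (hφ f n) (Ideal.mul_mem_right _ _ (Ideal.pow_mem_pow hxm n))

section Lift

variable {k A : Type u} [CommRing k] [CommRing A] [Algebra k A] (I : Ideal A)

theorem isNilpotent_ker_step (n : ℕ) : IsNilpotent (RingHom.ker
    (Ideal.Quotient.factorₐ k (Ideal.pow_le_pow_right (Nat.le_succ (n + 1)) : I ^ (n + 1 + 1) ≤ I ^ (n + 1))).toRingHom) := by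
  refine ⟨2, ?_⟩
  have h : RingHom.ker
      (Ideal.Quotient.factorₐ k (Ideal.pow_le_pow_right (Nat.le_succ (n + 1)) : I ^ (n + 1 + 1) ≤ I ^ (n + 1))).toRingHom
      ≤ (I ^ (n + 1)).map (Ideal.Quotient.mk (I ^ (n + 1 + 1))) := by
    intro z hz
    obtain ⟨a, rfl⟩ := Ideal.Quotient.mk_surjective z
    exact Ideal.mem_map_of_mem _ (Ideal.Quotient.eq_zero_iff_mem.1 hz)
  refine le_bot_iff.1 ((Ideal.pow_right_mono h 2).trans ?_)
  rw [← Ideal.map_pow, ← pow_mul, Ideal.map_le_iff_le_comap]
  intro a ha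
  exact Ideal.mem_bot.2 (Ideal.Quotient.eq_zero_iff_mem.2 (Ideal.pow_le_pow_right (by omega) ha))

theorem exists_lift_step [Algebra.FormallySmooth k (A ⧸ I)] (n : ℕ) (g : (A ⧸ I) →ₐ[k] A ⧸ I ^ (n + 1)) : ∃ g' : (A ⧸ I) →ₐ[k] A ⧸ I ^ (n + 1 + 1),
      (Ideal.Quotient.factorₐ k (Ideal.pow_le_pow_right (Nat.le_succ _))).comp g' = g :=
  ⟨_, Algebra.FormallySmooth.comp_liftOfSurjective g (Ideal.Quotient.factorₐ k (Ideal.pow_le_pow_right (Nat.le_succ (n + 1)) : I ^ (n + 1 + 1) ≤ I ^ (n + 1))) (Ideal.Quotient.factor_surjective (Ideal.pow_le_pow_right (Nat.le_succ (n + 1)) : I ^ (n + 1 + 1) ≤ I ^ (n + 1))) (isNilpotent_ker_step (k := k) I n)⟩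

end Lift

/-- Formally smooth quotients of complete rings have sections. -/
theorem exists_section {k A : Type u} [CommRing k] [CommRing A] [Algebra k A] (I : Ideal A) [IsAdicComplete I A]
    [Algebra.FormallySmooth k (A ⧸ I)] :
    ∃ s : (A ⧸ I) →ₐ[k] A, (Ideal.Quotient.mkₐ k I).comp s = AlgHom.id k _ := by
  have hle : ∀ n, I ^ (n + 1) ≤ I := fun n => Ideal.pow_le_self (Nat.succ_ne_zero n)
  have step := exists_lift_step (k := k) I
  choose next hnext using step
  let g : ∀ n, (A ⧸ I) →ₐ[k] A ⧸ I ^ (n + 1) := fun n =>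
    Nat.rec (Ideal.Quotient.factorₐ k (le_of_eq (pow_one I).symm : I ≤ I ^ 1)) next n
  have hg : ∀ n, (Ideal.Quotient.factorₐ k (Ideal.pow_le_pow_right (Nat.le_succ _))).comp (g (n + 1)) = g n :=
    fun n => hnext n (g n)
  have hgd : ∀ {m n : ℕ} (h : m ≤ n),
      (Ideal.Quotient.factorₐ k (Ideal.pow_le_pow_right (Nat.succ_le_succ h))).comp (g n) = g m := by
    intro m n h
    induction n, h using Nat.le_induction with
    | base =>
      refine AlgHom.ext fun b => ?_
      obtain ⟨a, ha⟩ := Ideal.Quotient.mk_surjective (g m b)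
      rw [AlgHom.comp_apply, ← ha]
      rfl
    | succ n h ih =>
      refine AlgHom.ext fun b => ?_
      rw [← ih, ← hg n]
      obtain ⟨a, ha⟩ := Ideal.Quotient.mk_surjective (g (n + 1) b)
      simp only [AlgHom.comp_apply, ← ha]
      rfl
  let F : ∀ n, (A ⧸ I) →ₐ[k] A ⧸ I ^ n := fun n =>
    (Ideal.Quotient.factorₐ k (Ideal.pow_le_pow_right (Nat.le_succ n))).comp (g n)
  have hcompat : ∀ {m n : ℕ} (h : m ≤ n),
      (Ideal.Quotient.factorₐ k (Ideal.pow_le_pow_right h)).comp (F n) = F m := by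
    intro m n h
    refine AlgHom.ext fun b => ?_
    obtain ⟨a, ha⟩ := Ideal.Quotient.mk_surjective (g n b)
    show _ = Ideal.Quotient.factorₐ k (Ideal.pow_le_pow_right (Nat.le_succ m)) (g m b)
    rw [← hgd h]
    simp only [F, AlgHom.comp_apply, ← ha]
    rfl
  refine ⟨IsAdicComplete.liftAlgHom I F hcompat, AlgHom.ext fun b => ?_⟩
  have h1 := IsAdicComplete.mk_liftAlgHom I F hcompat 1 b
  have h0 : ∀ c, Ideal.Quotient.mk (I ^ (0 + 1)) c = g 0 b → Ideal.Quotient.mk I c = b := fun c hc => by
    obtain ⟨c', rfl⟩ := Ideal.Quotient.mk_surjective b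
    rw [Ideal.Quotient.eq]
    have : Ideal.Quotient.mk (I ^ (0 + 1)) c = Ideal.Quotient.mk (I ^ (0 + 1)) c' := hc
    rwa [Ideal.Quotient.eq, zero_add, pow_one] at this
  refine h0 _ ?_
  rw [← hgd (Nat.zero_le 1)]
  exact h1

end GrothLib.SecSeries
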