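import Mathlib.RingTheory.MvPowerSeries.Equiv
import Mathlib.RingTheory.AdicCompletion.RingHom
import Mathlib.RingTheory.MvPolynomial.Ideal
import Mathlib.RingTheory.MvPolynomial.Homogeneous

/-!
# Completion along an ideal with section and independent generators is a power series ring

`C` an `R`-algebra, `H` an ideal with `R → C/H` surjective, `t : Fin d → H` generating `H` modulo
`H ^ 2` and with no homogeneous relation of degree `n` modulo `H ^ (n + 1)`.
-/

universe u v

noncomputable section

namespace GrothLib.SecSeries.MvLevels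

open MvPolynomial

variable {R : Type u} {C : Type v} [CommRing R] [CommRing C] [Algebra R C]

variable {d : ℕ} (H : Ideal C) (t : Fin d → C) (ht : ∀ i, t i ∈ H)

include ht in
theorem map_idealOfVars_le :
    idealOfVars (Fin d) R ≤ H.comap (aeval t : MvPolynomial (Fin d) R →ₐ[R] C) := by
  rw [idealOfVars, Ideal.span_le]
  rintro _ ⟨i, rfl⟩
  simpa using ht i

include ht in
theorem pow_le_comap (n : ℕ) :
    idealOfVars (Fin d) R ^ n ≤ (H ^ n).comap (aeval t : MvPolynomial (Fin d) R →ₐ[R] C) :=
  (Ideal.pow_right_mono (map_idealOfVars_le H t ht) n).trans (Ideal.le_comap_pow _ n)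

/-- Evaluation at the level `n`. -/
def lev (n : ℕ) : MvPolynomial (Fin d) R ⧸ idealOfVars (Fin d) R ^ n →ₐ[R] C ⧸ H ^ n :=
  Ideal.Quotient.liftₐ _ ((Ideal.Quotient.mkₐ R (H ^ n)).comp (aeval t))
    (fun _ hp => Ideal.Quotient.eq_zero_iff_mem.2 (pow_le_comap H t ht n hp))

theorem lev_mk (n : ℕ) (p : MvPolynomial (Fin d) R) :
    lev H t ht n (Ideal.Quotient.mk _ p) = Ideal.Quotient.mk (H ^ n) (aeval t p) := rfl

include ht in
theorem exists_sub_mem_pow (hsec : ∀ c : C, ∃ r : R, c - algebraMap R C r ∈ H)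
    (hgen : H ≤ Ideal.span (Set.range t) ⊔ H ^ 2) (n : ℕ) (c : C) :
    ∃ p : MvPolynomial (Fin d) R, c - aeval t p ∈ H ^ n := by
  have h1 : ∀ h ∈ H, ∃ p : MvPolynomial (Fin d) R, h - aeval t p ∈ H ^ 2 := by
    intro h hh
    obtain ⟨a, ha, b, hb, rfl⟩ := Submodule.mem_sup.1 (hgen hh)
    obtain ⟨co, rfl⟩ := Ideal.mem_span_range_iff_exists_fun.1 ha
    choose r hr using fun i => hsec (co i)
    refine ⟨∑ i, MvPolynomial.C (r i) * X i, ?_⟩
    rw [map_sum, add_comm, add_sub_assoc, ← Finset.sum_sub_distrib]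
    refine add_mem hb (Ideal.sum_mem _ fun i _ => ?_)
    rw [map_mul, aeval_C, aeval_X, ← sub_mul, sq]
    exact Ideal.mul_mem_mul (hr i) (ht i)
  have h2 : ∀ n : ℕ, ∀ h ∈ H ^ n, ∃ p : MvPolynomial (Fin d) R, h - aeval t p ∈ H ^ (n + 1) := by
    intro n
    induction n with
    | zero =>
      intro h _
      obtain ⟨r, hr⟩ := hsec h
      exact ⟨MvPolynomial.C r, by rwa [zero_add, pow_one, aeval_C]⟩
    | succ n ih =>
      intro x hx
      rw [pow_succ] at hx
      refine Submodule.mul_induction_on hx (fun a ha h hh => ?_) (fun a b ha hb => ?_)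
      · obtain ⟨p, hp⟩ := ih a ha
        obtain ⟨p', hp'⟩ := h1 h hh
        have hp'H : aeval t p' ∈ H := by
          have := sub_mem hh (Ideal.pow_le_self (two_ne_zero) hp')
          rwa [sub_sub_cancel] at this
        refine ⟨p * p', ?_⟩
        have e : a * h - aeval t (p * p') = a * (h - aeval t p') + (a - aeval t p) * aeval t p' := by
          rw [map_mul]; ring
        rw [e]
        refine add_mem ?_ ?_
        · have := Ideal.mul_mem_mul ha hp'
          rwa [← pow_add] at this
        · have := Ideal.mul_mem_mul hp hp'H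
          rwa [← pow_succ] at this
      · obtain ⟨p, hp⟩ := ha
        obtain ⟨p', hp'⟩ := hb
        refine ⟨p + p', ?_⟩
        rw [map_add, add_sub_add_comm]
        exact add_mem hp hp'
  induction n with
  | zero => exact ⟨0, by simp⟩
  | succ n ih =>
    obtain ⟨p, hp⟩ := ih
    obtain ⟨p', hp'⟩ := h2 n _ hp
    exact ⟨p + p', by rwa [map_add, ← sub_sub]⟩

theorem lev_surjective (hsec : ∀ c : C, ∃ r : R, c - algebraMap R C r ∈ H)
    (hgen : H ≤ Ideal.span (Set.range t) ⊔ H ^ 2) (n : ℕ) : Function.Surjective (lev (R := R) H t ht n) := by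
  intro z
  obtain ⟨c, rfl⟩ := Ideal.Quotient.mk_surjective z
  obtain ⟨p, hp⟩ := exists_sub_mem_pow H t ht hsec hgen n c
  exact ⟨Ideal.Quotient.mk _ p, by rw [lev_mk]; exact (Ideal.Quotient.eq.2 hp).symm⟩

omit [Algebra R C] in
theorem mem_pow_of_isHomogeneous {n : ℕ} {p : MvPolynomial (Fin d) R} (hp : p.IsHomogeneous n) :
    p ∈ idealOfVars (Fin d) R ^ n := by
  rw [mem_pow_idealOfVars_iff]
  intro m hm
  have := hp (mem_support_iff.1 hm)
  rw [Finsupp.degree_eq_weight_one]
  exact this.ge

include ht in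
theorem lev_injective
    (hinj : ∀ (k : ℕ) (F : MvPolynomial (Fin d) R), F.IsHomogeneous k → aeval t F ∈ H ^ (k + 1) → F = 0)
    (n : ℕ) : Function.Injective (lev (R := R) H t ht n) := by
  rw [injective_iff_map_eq_zero]
  intro z hz
  obtain ⟨p, rfl⟩ := Ideal.Quotient.mk_surjective z
  rw [lev_mk, Ideal.Quotient.eq_zero_iff_mem] at hz
  refine Ideal.Quotient.eq_zero_iff_mem.2 ?_
  suffices h : ∀ k ≤ n, p ∈ idealOfVars (Fin d) R ^ k from h n le_rfl
  intro k
  induction k with
  | zero => simp
  | succ k ih =>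
    intro hk
    have hpk := ih (by omega)
    have hrest : p - homogeneousComponent k p ∈ idealOfVars (Fin d) R ^ (k + 1) := by
      rw [mem_pow_idealOfVars_iff']
      intro x hx
      rw [coeff_sub, coeff_homogeneousComponent]
      rcases Nat.lt_succ_iff_lt_or_eq.1 hx with hlt | heq
      · rw [if_neg hlt.ne, sub_zero]
        exact (mem_pow_idealOfVars_iff' k p).1 hpk x hlt
      · rw [if_pos heq, sub_self]
    have hF : aeval t (homogeneousComponent k p) ∈ H ^ (k + 1) := by
      rw [← sub_sub_cancel p (homogeneousComponent k p), map_sub]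
      exact sub_mem (Ideal.pow_le_pow_right hk hz) (pow_le_comap H t ht (k + 1) hrest)
    rw [hinj k _ (homogeneousComponent_isHomogeneous k p) hF, sub_zero] at hrest
    exact hrest

omit [Algebra R C] in
theorem constantCoeff_eq_zero_iff {p : MvPolynomial (Fin d) R} :
    p ∈ idealOfVars (Fin d) R ↔ constantCoeff p = 0 := by
  rw [← pow_one (idealOfVars (Fin d) R), mem_pow_idealOfVars_iff']
  constructor
  · intro h; exact h 0 (by simp)
  · intro h x hx
    have : x = 0 := (Finsupp.degree_eq_zero_iff x).1 (by omega)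
    rw [this]; exact h

/-- The completion along `H` is the power series ring. -/
theorem nonempty_equiv (hsec : ∀ c : C, ∃ r : R, c - algebraMap R C r ∈ H)
    (hgen : H ≤ Ideal.span (Set.range t) ⊔ H ^ 2) (ht : ∀ i, t i ∈ H)
    (hinj : ∀ (k : ℕ) (F : MvPolynomial (Fin d) R), F.IsHomogeneous k → aeval t F ∈ H ^ (k + 1) → F = 0) :
    ∃ e : AdicCompletion H C ≃ₐ[R] MvPowerSeries (Fin d) R,
      (∀ i, e (AdicCompletion.of H C (t i)) = MvPowerSeries.X i) ∧
      ∀ h ∈ H, MvPowerSeries.constantCoeff (e (AdicCompletion.of H C h)) = 0 := by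
  let q : ∀ n, (MvPolynomial (Fin d) R ⧸ idealOfVars (Fin d) R ^ n) ≃ₐ[R] C ⧸ H ^ n := fun n =>
    AlgEquiv.ofBijective (lev H t ht n) ⟨lev_injective H t ht hinj n, lev_surjective H t ht hsec hgen n⟩
  have hq : ∀ n p, q n (Ideal.Quotient.mk _ p) = Ideal.Quotient.mk (H ^ n) (aeval t p) := fun n p => rfl
  let f : ∀ n, MvPowerSeries (Fin d) R →ₐ[R] C ⧸ H ^ n := fun n =>
    (q n).toAlgHom.comp ((MvPowerSeries.truncTotalAlgHom (Fin d) R n).restrictScalars R)
  have hf : ∀ {m n : ℕ} (hle : m ≤ n),
      (Ideal.Quotient.factorₐ R (Ideal.pow_le_pow_right hle)).comp (f n) = f m := by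
    intro m n hle
    refine AlgHom.ext fun p => ?_
    change Ideal.Quotient.mk (H ^ m) (aeval t (MvPowerSeries.truncTotal n p)) =
      Ideal.Quotient.mk (H ^ m) (aeval t (MvPowerSeries.truncTotal m p))
    rw [Ideal.Quotient.eq, ← map_sub]
    exact pow_le_comap H t ht m (MvPowerSeries.truncTotal_sub_truncTotal_mem_pow_idealOfVars hle le_rfl _)
  let φ : MvPowerSeries (Fin d) R →ₐ[R] AdicCompletion H C := AdicCompletion.liftAlgHom H f hf
  have hφ : ∀ n p, AdicCompletion.evalₐ H n (φ p) =
      q n (MvPowerSeries.truncTotalAlgHom (Fin d) R n p) := fun n p =>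
    AdicCompletion.evalₐ_liftAlgHom H f hf n p
  have hcompat : ∀ {m n : ℕ} (hle : m ≤ n) (z : MvPolynomial (Fin d) R ⧸ idealOfVars (Fin d) R ^ n),
      q m (Ideal.Quotient.factor (Ideal.pow_le_pow_right hle) z) =
        Ideal.Quotient.factor (Ideal.pow_le_pow_right hle) (q n z) := by
    intro m n hle z
    obtain ⟨p, rfl⟩ := Ideal.Quotient.mk_surjective z
    rfl
  have hT : ∀ n p, AdicCompletion.evalₐ (idealOfVars (Fin d) R) n
      (MvPowerSeries.toAdicCompletionAlgEquiv (Fin d) R p) =
      MvPowerSeries.truncTotalAlgHom (Fin d) R n p := fun n p =>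
    AdicCompletion.evalₐ_liftAlgHom _ (MvPowerSeries.truncTotalAlgHom (Fin d) R) (fun h => AlgHom.ext fun q =>
      Ideal.Quotient.eq.2 (MvPowerSeries.truncTotal_sub_truncTotal_mem_pow_idealOfVars h le_rfl q)) n p
  have hbij : Function.Bijective φ := by
    refine ⟨fun a b hab => ?_, fun x => ?_⟩
    · refine (MvPowerSeries.toAdicCompletionAlgEquiv (Fin d) R).injective
        (AdicCompletion.ext_evalₐ fun n => ?_)
      have := congrArg (AdicCompletion.evalₐ H n) hab
      rw [hφ, hφ] at this
      rw [hT, hT]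
      exact (q n).injective this
    · let F : ∀ n, AdicCompletion H C →+* MvPolynomial (Fin d) R ⧸ idealOfVars (Fin d) R ^ n := fun n =>
        (q n).symm.toRingEquiv.toRingHom.comp (AdicCompletion.evalₐ H n).toRingHom
      have hF : ∀ {m n : ℕ} (hle : m ≤ n),
          (Ideal.Quotient.factorPow _ hle).comp (F n) = F m := by
        intro m n hle
        refine RingHom.ext fun y => (q m).injective ?_
        change q m (Ideal.Quotient.factor (Ideal.pow_le_pow_right hle) ((q n).symm (AdicCompletion.evalₐ H n y))) =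
          q m ((q m).symm (AdicCompletion.evalₐ H m y))
        rw [hcompat hle, AlgEquiv.apply_symm_apply, AlgEquiv.apply_symm_apply]
        induction y using AdicCompletion.induction_on with
        | _ s =>
          simp only [AdicCompletion.evalₐ_mk, Ideal.Quotient.factor_mk]
          exact AdicCompletion.Ideal.mk_eq_mk H hle s
      obtain ⟨p, hp⟩ := (MvPowerSeries.toAdicCompletionAlgEquiv (Fin d) R).surjective
        (AdicCompletion.liftRingHom _ F hF x)
      refine ⟨p, AdicCompletion.ext_evalₐ fun n => ?_⟩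
      have h1 := congrArg (AdicCompletion.evalₐ _ n) hp
      rw [AdicCompletion.evalₐ_liftRingHom] at h1
      rw [hT] at h1
      rw [hφ, h1]
      exact (q n).apply_symm_apply _
  refine ⟨(AlgEquiv.ofBijective φ hbij).symm, fun i => ?_, fun h hh => ?_⟩
  · rw [AlgEquiv.symm_apply_eq]
    refine AdicCompletion.ext_evalₐ fun n => ?_
    change _ = AdicCompletion.evalₐ H n (φ _)
    rw [hφ, AdicCompletion.evalₐ_of, ← MvPolynomial.coe_X]
    have hc := (MvPowerSeries.truncTotalAlgHom (Fin d) R n).commutes (MvPolynomial.X i)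
    rw [MvPowerSeries.algebraMap_apply'] at hc
    simp only [Algebra.algebraMap_self, map_id, id_eq] at hc
    rw [show MvPowerSeries.truncTotalAlgHom (Fin d) R n
        ((MvPolynomial.X i : MvPolynomial (Fin d) R) : MvPowerSeries (Fin d) R) =
        Ideal.Quotient.mk _ (MvPolynomial.X i) from by simpa using hc, hq, aeval_X]
  · obtain ⟨p, hp⟩ := hbij.2 (AdicCompletion.of H C h)
    have e : (AlgEquiv.ofBijective φ hbij).symm (AdicCompletion.of H C h) = p := by
      rw [AlgEquiv.symm_apply_eq]; exact hp.symm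
    rw [e]
    have h1 := congrArg (AdicCompletion.evalₐ H 1) hp
    rw [hφ, AdicCompletion.evalₐ_of] at h1
    have h2 : Ideal.Quotient.mk (H ^ 1) h = 0 :=
      Ideal.Quotient.eq_zero_iff_mem.2 (by rwa [pow_one])
    rw [h2, map_eq_zero_iff _ (q 1).injective, MvPowerSeries.truncTotalAlgHom_apply,
      Ideal.Quotient.eq_zero_iff_mem, pow_one, constantCoeff_eq_zero_iff] at h1
    rw [← h1, MvPolynomial.constantCoeff_eq, MvPowerSeries.coeff_truncTotal _ (by simp),
      MvPowerSeries.coeff_zero_eq_constantCoeff_apply]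

end GrothLib.SecSeries.MvLevels
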